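import Groth.Agent.GorMor.StalkExt
import Groth.Agent.CMMor.NoethBaseChange

/-!
# Gorenstein points and base change
-/

set_option autoImplicit false
set_option backward.isDefEq.respectTransparency.types false
set_option linter.style.haveILetI false

universe u

open CategoryTheory CategoryTheory.Limits AlgebraicGeometry IsLocalRing

namespace Groth.GorMor

theorem isGorenstein_stalk_eq {X Y : Scheme.{u}} (f : X ⟶ Y) (x : X) {y : Y} (z : f.fiber y)
    (hz : f.fiberι y z = x) :
    LocCoh.IsGorensteinLocalRing ((f.fiber (f x)).presheaf.stalk (f.asFiber x)) ↔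
      LocCoh.IsGorensteinLocalRing ((f.fiber y).presheaf.stalk z) := by
  have hy : f x = y := by
    rw [← hz]
    have : f.fiberι y z ∈ f ⁻¹' {y} := by rw [← f.range_fiberι]; exact ⟨z, rfl⟩
    exact this
  subst hy
  have : z = f.asFiber x := (f.fiberι (f x)).isEmbedding.injective (by rw [hz, f.fiberι_asFiber])
  rw [this]

variable {X Y X' Y' : Scheme.{u}} (f : X ⟶ Y) (g : Y' ⟶ Y) (f' : X' ⟶ Y')
  (g' : X' ⟶ X) (hc : IsPullback g' f' f g)

include hc in
/-- The Gorenstein property of fibre stalks does not see base change. -/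
theorem isGorenstein_fibre_iff (x' : X') [IsLocallyNoetherian (f.fiber (g (f' x')))]
    [IsLocallyNoetherian (f'.fiber (f' x'))] :
    LocCoh.IsGorensteinLocalRing ((f'.fiber (f' x')).presheaf.stalk (f'.asFiber x')) ↔
      LocCoh.IsGorensteinLocalRing ((f.fiber (f (g' x'))).presheaf.stalk (f.asFiber (g' x'))) := by
  obtain ⟨q, hq1, hsq⟩ := Groth.CMMor.exists_fiber_map f g f' g' hc (f' x')
  rw [isGorenstein_stalk_iff (k := Y.residueField (g (f' x'))) (K := Y'.residueField (f' x'))
    (g.residueFieldMap (f' x')) _ _ q hsq (f'.asFiber x')]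
  refine (isGorenstein_stalk_eq f (g' x') (q (f'.asFiber x')) ?_).symm
  rw [← Scheme.Hom.comp_apply, hq1, Scheme.Hom.comp_apply, f'.fiberι_asFiber]

include hc in
/-- The fibres of a base change by a morphism locally of finite type stay locally Noetherian. -/
theorem isLocallyNoetherian_fibre_baseChange [LocallyOfFiniteType g]
    (hN : ∀ y : Y, IsLocallyNoetherian (f.fiber y)) (y' : Y') : IsLocallyNoetherian (f'.fiber y') := by
  have : IsLocallyNoetherian (pullback f (Y.fromSpecResidueField (g y'))) := hN (g y')
  exact Groth.FlatMor2.isLocallyNoetherian_of_isPullback_essFiniteType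
    (Groth.FlatMor2.essFiniteType_residueFieldMap g y')
    (isPullback_fiberToSpecResidueField_of_isPullback hc y')

include hc in
/-- Gorenstein points under base changes locally of finite type. -/
theorem isGorensteinAt_baseChange_of_lft [LocallyOfFiniteType g]
    (hN : ∀ y : Y, IsLocallyNoetherian (f.fiber y)) (x' : X') :
    (Dual3.IsGorensteinAt f (g' x') → Dual3.IsGorensteinAt f' x') ∧
      ((f.stalkMap (g' x')).hom.Flat → Dual3.IsGorensteinAt f' x' → Dual3.IsGorensteinAt f (g' x')) ∧
      ((g.stalkMap (f' x')).hom.Flat → Dual3.IsGorensteinAt f' x' → Dual3.IsGorensteinAt f (g' x')) := by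
  have := hN (g (f' x'))
  have := isLocallyNoetherian_fibre_baseChange f g f' g' hc hN (f' x')
  have key := isGorenstein_fibre_iff f g f' g' hc x'
  refine ⟨fun h => ⟨Groth.Misc13.FlatBC.flat_stalkMap_baseChange hc.flip x' h.1, key.2 h.2⟩,
    fun hf h => ⟨hf, key.1 h.2⟩,
    fun hg h => ⟨Groth.CMMor.flat_stalkMap_of_baseChange f g f' g' hc x' hg h.1, key.1 h.2⟩⟩

include hc in
/-- The Gorenstein locus of a flat morphism locally of finite type commutes with base change. -/
theorem isGorensteinAt_baseChange_iff [Flat f] [LocallyOfFiniteType f] (x' : X') :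
    Dual3.IsGorensteinAt f' x' ↔ Dual3.IsGorensteinAt f (g' x') := by
  have : Flat f' := MorphismProperty.of_isPullback hc inferInstance
  have : LocallyOfFiniteType f' := MorphismProperty.of_isPullback hc inferInstance
  have h1 : ∀ {A B : Scheme.{u}} (h : A ⟶ B) [LocallyOfFiniteType h] (b : B), IsLocallyNoetherian (h.fiber b) := by
    intro A B h _ b
    have : LocallyOfFiniteType (h.fiberToSpecResidueField b) :=
      inferInstanceAs (LocallyOfFiniteType (pullback.snd h (B.fromSpecResidueField b)))
    exact LocallyOfFiniteType.isLocallyNoetherian (h.fiberToSpecResidueField b)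
  have := h1 f (g (f' x'))
  have := h1 f' (f' x')
  exact and_congr (iff_of_true (Flat.stalkMap f' x') (Flat.stalkMap f (g' x')))
    (isGorenstein_fibre_iff f g f' g' hc x')

end Groth.GorMor
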