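import Groth.Agent.Gorenstein.BaseChange
import Groth.Agent.Gorenstein.Regular

/-!
# Gorenstein local rings and arbitrary extensions of the ground field
-/

set_option autoImplicit false
set_option linter.style.haveILetI false
set_option backward.isDefEq.respectTransparency.types false

universe u

open TensorProduct IsLocalRing IntermediateField GrothGoren

namespace Groth.GorMor

variable {k K : Type u} [Field k] [Field K] [Algebra k K] (R : Type u) [CommRing R] [Algebra k R]

/-- The inclusion of a base change to a subfield. -/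
noncomputable def incl (L : IntermediateField k K) : L ⊗[k] R →ₐ[L] K ⊗[k] R :=
  Algebra.TensorProduct.map (IsScalarTower.toAlgHom L L K) (AlgHom.id k R)

/-- The inclusion of a base change to a subfield, as a ring homomorphism. -/
noncomputable abbrev inclR (L : IntermediateField k K) : L ⊗[k] R →+* K ⊗[k] R := (incl R L).toRingHom

theorem exists_finset (z : K ⊗[k] R) :
    ∃ s : Finset K, ∀ L : IntermediateField k K, (s : Set K) ⊆ L → z ∈ Set.range (incl R L) := by
  classical
  induction z using TensorProduct.induction_on with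
  | zero => exact ⟨∅, fun L _ => ⟨0, map_zero _⟩⟩
  | tmul a r => exact ⟨{a}, fun L hL => ⟨(⟨a, hL (by simp)⟩ : L) ⊗ₜ r, rfl⟩⟩
  | add x y hx hy =>
    obtain ⟨s, hs⟩ := hx
    obtain ⟨t, ht⟩ := hy
    refine ⟨s ∪ t, fun L hL => ?_⟩
    rw [Finset.coe_union, Set.union_subset_iff] at hL
    obtain ⟨x', rfl⟩ := hs L hL.1
    obtain ⟨y', rfl⟩ := ht L hL.2
    exact ⟨x' + y', map_add _ _ _⟩

theorem map_maximalIdeal_le' {A B : Type u} [CommRing A] [CommRing B] [IsLocalRing A] [IsLocalRing B]
    (φ : A →+* B) [IsLocalHom φ] : (maximalIdeal A).map φ ≤ maximalIdeal B :=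
  ((local_hom_TFAE φ).out 0 2).mp ‹IsLocalHom φ›

theorem flat_map_subfield (L : Type u) [Field L] [Algebra k L] [Algebra L K] [IsScalarTower k L K] :
    RingHom.Flat (R := L ⊗[k] R) (S := K ⊗[k] R)
      (Algebra.TensorProduct.map (IsScalarTower.toAlgHom L L K) (AlgHom.id k R)).toRingHom := by
  let φ : K ⊗[L] (L ⊗[k] R) ≃ₐ[K] K ⊗[k] R := Algebra.TensorProduct.cancelBaseChange k L K K R
  have h1 : (Algebra.TensorProduct.includeRight : L ⊗[k] R →ₐ[L] K ⊗[L] (L ⊗[k] R)).toRingHom.Flat := by
    have h : (Algebra.TensorProduct.includeRight : L ⊗[k] R →ₐ[L] K ⊗[L] (L ⊗[k] R)).toRingHom =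
        (Algebra.TensorProduct.comm L (L ⊗[k] R) K).toRingEquiv.toRingHom.comp
          (algebraMap (L ⊗[k] R) ((L ⊗[k] R) ⊗[L] K)) := RingHom.ext fun _ => rfl
    rw [h]
    exact RingHom.Flat.comp (RingHom.flat_algebraMap_iff.2 inferInstance)
      (RingHom.Flat.of_bijective (Algebra.TensorProduct.comm L (L ⊗[k] R) K).bijective)
  have h2 : (Algebra.TensorProduct.map (IsScalarTower.toAlgHom L L K) (AlgHom.id k R)).toRingHom =
      (φ.toRingEquiv.toRingHom).comp (Algebra.TensorProduct.includeRight : L ⊗[k] R →ₐ[L] K ⊗[L] (L ⊗[k] R)).toRingHom := by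
    refine RingHom.ext fun z => ?_
    induction z using TensorProduct.induction_on with
    | zero => simp
    | tmul a r =>
      show (algebraMap L K a) ⊗ₜ[k] r = φ ((1 : K) ⊗ₜ[L] (a ⊗ₜ[k] r))
      rw [Algebra.TensorProduct.cancelBaseChange_tmul]
      simp [Algebra.smul_def]
    | add x y hx hy => rw [map_add, map_add, hx, hy]
  rw [h2]
  exact RingHom.Flat.comp h1 (RingHom.Flat.of_bijective φ.bijective)

theorem flat_incl (L : IntermediateField k K) : RingHom.Flat (R := L ⊗[k] R) (S := K ⊗[k] R) (inclR R L) :=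
  flat_map_subfield R L

/-- A local ring generated from a Gorenstein flat subring is Gorenstein. -/
theorem exists_injLT_of_generated {A₀ B₀ : Type u} [CommRing A₀] [CommRing B₀] [LocCoh.IsGorensteinRing A₀]
    (f : A₀ →+* B₀) (hf : f.Flat) (n : Ideal B₀) [n.IsPrime] [IsNoetherianRing (Localization.AtPrime n)]
    (hgen : (maximalIdeal (Localization.AtPrime n)) ≤
      Ideal.span (algebraMap B₀ (Localization.AtPrime n) '' (f '' (f ⁻¹' (n : Set B₀))))) :
    ∃ d, InjLT (Localization.AtPrime n) (Localization.AtPrime n) d := by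
  let B := Localization.AtPrime n
  let n₀ : Ideal A₀ := n.comap f
  let A := Localization.AtPrime n₀
  haveI := LocCoh.IsGorensteinRing.isGorensteinLocalRing_localization (A := A₀) n₀
  haveI : IsNoetherianRing A := IsLocalization.isNoetherianRing n₀.primeCompl _ inferInstance
  let φ : A →+* B := Localization.localRingHom n₀ n f rfl
  letI := φ.toAlgebra
  haveI : IsLocalHom (algebraMap A B) := Localization.isLocalHom_localRingHom n₀ n _ rfl
  haveI : Module.Flat A B := RingHom.flat_algebraMap_iff.1 (RingHom.Flat.localRingHom hf n n₀ rfl)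
  have hmax : (maximalIdeal A).map (algebraMap A B) = maximalIdeal B := by
    refine le_antisymm (map_maximalIdeal_le' φ) (hgen.trans (Ideal.span_le.2 ?_))
    rintro _ ⟨_, ⟨w, hw, rfl⟩, rfl⟩
    have : algebraMap B₀ B (f w) = φ (algebraMap A₀ A w) :=
      (Localization.localRingHom_to_map n₀ n f rfl w).symm
    rw [this]
    exact Ideal.mem_map_of_mem _ (by rw [← Localization.AtPrime.map_eq_maximalIdeal]; exact Ideal.mem_map_of_mem _ hw)
  refine (exists_injLT_flat_iff A B).2 ⟨(isGorenstein_iff _).1 inferInstance, ?_⟩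
  letI := Ideal.Quotient.field (maximalIdeal B)
  refine (exists_injLT_iff_of_ringEquiv (Ideal.quotEquivOfEq hmax.symm)).1 ?_
  exact exists_injLT_of_regular _ (B ⧸ maximalIdeal B) le_rfl

variable (k K)

/-- Gorenstein rings stay Gorenstein at Noetherian local rings of extensions of the ground field. -/
theorem exists_injLT_tensor [LocCoh.IsGorensteinRing R] (n : Ideal (K ⊗[k] R)) [n.IsPrime]
    [IsNoetherianRing (Localization.AtPrime n)] :
    ∃ d, InjLT (Localization.AtPrime n) (Localization.AtPrime n) d := by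
  classical
  let B := Localization.AtPrime n
  have hfg : (Submodule.span B (algebraMap (K ⊗[k] R) B '' (n : Set (K ⊗[k] R)))).FG := IsNoetherian.noetherian _
  obtain ⟨t, htn, ht⟩ := (Submodule.fg_span_iff_fg_span_finset_subset _).1 hfg
  obtain ⟨t', ht'n, rfl⟩ := Finset.subset_set_image_iff.1 htn
  choose s hs using exists_finset (k := k) (K := K) R
  let L : IntermediateField k K := IntermediateField.adjoin k ((t'.biUnion s : Finset K) : Set K)
  haveI : LocCoh.IsGorensteinRing (L ⊗[k] R) := by
    haveI : Algebra.EssFiniteType k L := IntermediateField.essFiniteType_iff.2 (IntermediateField.fg_adjoin_finset _)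
    exact isGorensteinRing_tensor_fg (IntermediateField.fg_top k L) R
  refine exists_injLT_of_generated (A₀ := L ⊗[k] R) (B₀ := K ⊗[k] R) (inclR R L) (flat_incl R L) n ?_
  rw [← Localization.AtPrime.map_eq_maximalIdeal, Ideal.map, Ideal.span, ht, Finset.coe_image]
  refine Submodule.span_mono ?_
  rintro _ ⟨z, hz, rfl⟩
  obtain ⟨w, rfl⟩ := hs z L fun a ha => IntermediateField.subset_adjoin k _ (Finset.mem_biUnion.2 ⟨z, hz, ha⟩)
  exact ⟨_, ⟨w, ht'n hz, rfl⟩, rfl⟩

end Groth.GorMor
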