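import Groth.Agent.AlgSpEt.GorMor
import Groth.Agent.Dual3Gor.Basic
import Groth.Agent.GorMor.BaseChange
import Groth.Agent.AlgSp2.ChartBaseChangeTower
import Groth.Agent.AlgSp2.InfSmallExt
import Groth.Agent.AlgSp2.FieldPts

/-!
# Gorenstein morphisms of algebraic spaces: composition and base change
-/

set_option autoImplicit false
set_option backward.isDefEq.respectTransparency.types false
set_option linter.style.haveILetI false

universe u

open CategoryTheory CategoryTheory.Limits AlgebraicGeometry AlgSp Groth.AlgSpBasic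

namespace Groth.GorMor

variable {S : Scheme.{u}} {X Y Z : Sp S}

/-- The fibres of `f` are locally Noetherian. -/
abbrev NoethFibres (f : X ⟶ Y) : Prop :=
  ∀ (k : FieldPt Y) (Xk : Sp S) (a : Xk ⟶ X) (b : Xk ⟶ (yon S).obj k.pt),
    IsPullback a b f k.toHom → IsLocNoethSp Xk

/-- Fibres of chart maps are locally Noetherian. -/
theorem isLocallyNoetherian_fiber_chart (hX : IsAlgSpace X) (hY : IsAlgSpace Y) {f : X ⟶ Y} (hf : NoethFibres f)
    {U V : Over S} {a : (yon S).obj U ⟶ X} {b : (yon S).obj V ⟶ Y} {h : U ⟶ V} (ha : RepWith @Etale a)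
    (hb : RepWith @Etale b) (comm : a ≫ f = (yon S).map h ≫ b) (v : V.left) :
    IsLocallyNoetherian (h.left.fiber v) := by
  let sK : Spec (CommRingCat.of (V.left.residueField v)) ⟶ S := V.left.fromSpecResidueField v ≫ V.hom
  let t : Over.mk sK ⟶ V := Over.homMk (V.left.fromSpecResidueField v) rfl
  let z : (yon S).obj (Over.mk sK) ⟶ Y := (yon S).map t ≫ b
  have hT := IsAlgSpace.yon_obj (Over.mk sK)
  have sM := IsPullback.of_hasPullback b z
  have hM : IsAlgSpace (pullback b z) := isAlgSpace_of_isPullback sM hY.diag (IsAlgSpace.yon_obj V) hT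
  let σ : (yon S).obj (Over.mk sK) ⟶ pullback b z :=
    sM.lift ((yon S).map t) (𝟙 _) (by rw [Category.id_comp])
  have hσ : IsEtaleMor σ := by
    refine Groth.AlgSp2.isEtaleMor_of_comp hT hM hT ?_ (Groth.AlgSp2.isEtaleMor_of_isPullback (IsAlgSpace.yon_obj V) hY hT sM
      (isEtaleMor_of_locP hY (locP_of_repWith hb)))
    rw [sM.lift_snd]; exact Groth.AlgSp2.isEtaleMor_id _
  let BU : Over S := Over.mk (h.left.fiberι v ≫ U.hom)
  let bU₁ : BU ⟶ U := Over.homMk (h.left.fiberι v) rfl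
  let bU₂ : BU ⟶ Over.mk sK := Over.homMk (h.left.fiberToSpecResidueField v) (by
    change _ ≫ V.left.fromSpecResidueField v ≫ V.hom = h.left.fiberι v ≫ U.hom
    rw [← Category.assoc, ← h.left.fiber_fac v, Category.assoc, Over.w h])
  have hBU : IsPullback bU₁ bU₂ h t :=
    IsPullback.of_map (Over.forget S) (Over.OverMorphism.ext (h.left.fiber_fac v))
      (IsPullback.of_hasPullback h.left (V.left.fromSpecResidueField v))
  have sX := IsPullback.of_hasPullback f z
  obtain ⟨l, hl, -⟩ := Groth.AlgSp2.exists_baseChange_chart hX hY hT sX ha comm hσ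
    (sM.lift_fst _ _ _).symm hBU
  have hN : IsLocNoethSp (pullback f z) := hf (Groth.AlgSp2.ofHom z) _ (pullback.fst f z) (pullback.snd f z) (by
    rw [Groth.AlgSp2.toHom_ofHom]; exact sX)
  exact Groth.AlgSp2.isLocallyNoetherian_of_etale (isAlgSpace_of_isPullback sX hY.diag hX hT) hN hl

/-- Composition of morphisms Gorenstein at a point. -/
theorem locPAt_gorenstein_comp (hX : IsAlgSpace X) (hY : IsAlgSpace Y) (hZ : IsAlgSpace Z) (f : X ⟶ Y) (g : Y ⟶ Z)
    (hg : NoethFibres g) (hfg : NoethFibres (f ≫ g)) (x : Points X) :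
    (LocPAt (fun h u => Dual3.IsGorensteinAt h u) f x → LocPAt (fun h u => Dual3.IsGorensteinAt h u) g (Points.map f x) →
        LocPAt (fun h u => Dual3.IsGorensteinAt h u) (f ≫ g) x) ∧
      (LocPAt (fun h u => Dual3.IsGorensteinAt h u) (f ≫ g) x → IsFlatAtMor f x →
        LocPAt (fun h u => Dual3.IsGorensteinAt h u) f x ∧
          LocPAt (fun h u => Dual3.IsGorensteinAt h u) g (Points.map f x)) := by
  obtain ⟨U, V, W, a, b, c, h, k, u, ha, hb, hc, e1, e2, e3, rfl, hbu⟩ :=
    Groth.AlgSp3.exists_chart_comp hX hY hZ f g x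
  rw [← hbu, Groth.AlgSpEt.locPAt_gorenstein_iff hX hY ha hb e1, Groth.AlgSpEt.locPAt_gorenstein_iff hY hZ hb hc e2,
    Groth.AlgSpEt.locPAt_gorenstein_iff hX hZ ha hc e3]
  have hk : ∀ w, IsLocallyNoetherian (k.left.fiber w) := isLocallyNoetherian_fiber_chart hY hZ hg hb hc e2
  have hhk : ∀ w, IsLocallyNoetherian ((h ≫ k).left.fiber w) := isLocallyNoetherian_fiber_chart hX hZ hfg ha hc e3
  obtain ⟨m1, m2⟩ := Groth.Dual3Gor.isGorensteinAt_comp h.left k.left hk hhk u
  exact ⟨m1, fun H hfl => m2 H (hfl a b h u ha hb e1 rfl)⟩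

variable {X' Y' : Sp S}

/-- Base change of morphisms Gorenstein at a point. -/
theorem locPAt_gorenstein_baseChange (hX : IsAlgSpace X) (hY : IsAlgSpace Y) (hY' : IsAlgSpace Y') (hX' : IsAlgSpace X')
    {f : X ⟶ Y} {g : Y' ⟶ Y} {g' : X' ⟶ X} {f' : X' ⟶ Y'} (sq : IsPullback g' f' f g) (hf : NoethFibres f)
    (hg : LocP @LocallyOfFiniteType g) (x' : Points X') :
    (LocPAt (fun h u => Dual3.IsGorensteinAt h u) f (Points.map g' x') → LocPAt (fun h u => Dual3.IsGorensteinAt h u) f' x') ∧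
      (IsFlatAtMor f (Points.map g' x') → LocPAt (fun h u => Dual3.IsGorensteinAt h u) f' x' →
        LocPAt (fun h u => Dual3.IsGorensteinAt h u) f (Points.map g' x')) ∧
      (IsFlatAtMor g (Points.map f' x') → LocPAt (fun h u => Dual3.IsGorensteinAt h u) f' x' →
        LocPAt (fun h u => Dual3.IsGorensteinAt h u) f (Points.map g' x')) := by
  obtain ⟨U, V, V', U', a, b, b', a', h, k, p, h', u', ha, hb, hb', ha', c1, c2, c3, c4, hpb, rfl, hu⟩ :=
    Groth.AlgSp3.exists_chart_baseChange hX hY hY' sq x'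
  rw [← hu, Groth.AlgSpEt.locPAt_gorenstein_iff hX hY ha hb c1, Groth.AlgSpEt.locPAt_gorenstein_iff hX' hY' ha' hb' c3]
  have : LocallyOfFiniteType k.left := hg b' b k hb' hb c2
  obtain ⟨m1, m2, m3⟩ := isGorensteinAt_baseChange_of_lft h.left k.left h'.left p.left hpb
    (isLocallyNoetherian_fiber_chart hX hY hf ha hb c1) u'
  refine ⟨m1, fun hfl => m2 (hfl a b h _ ha hb c1 rfl), fun hgl => m3 (hgl b' b k _ hb' hb c2 ?_)⟩
  rw [Points.map_ofPt, c3, ofPt_comp_yon]

end Groth.GorMor
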