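import Groth.Agent.GorMor.Space
import Groth.Agent.S10691

/-!
# Gorenstein morphisms of algebraic spaces and their fibres
-/

set_option autoImplicit false
set_option backward.isDefEq.respectTransparency.types false
set_option linter.style.haveILetI false

universe u

open CategoryTheory CategoryTheory.Limits AlgebraicGeometry AlgSp Groth.AlgSpBasic

namespace Groth.GorMor

variable {S : Scheme.{u}} {X Y : Sp S}

/-- The morphism to `Y` of the residue field of a point of a chart. -/
noncomputable abbrev resPt {V : Over S} (b : (yon S).obj V ⟶ Y) (v : V.left) :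
    (yon S).obj (Over.mk (V.left.fromSpecResidueField v ≫ V.hom)) ⟶ Y :=
  (yon S).map (Over.homMk (V.left.fromSpecResidueField v) rfl :
    Over.mk (V.left.fromSpecResidueField v ≫ V.hom) ⟶ V) ≫ b

/-- All residue fibres over a chart are Gorenstein. -/
abbrev GorFibres (f : X ⟶ Y) {V : Over S} (b : (yon S).obj V ⟶ Y) : Prop :=
  ∀ (v : ↥V.left) (Xv : Sp S) (a : Xv ⟶ X)
    (c : Xv ⟶ (yon S).obj (Over.mk (V.left.fromSpecResidueField v ≫ V.hom))),
    IsPullback a c f (resPt b v) → EtaleLocally Dual3.IsGorenstein Xv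

/-- A chart of `X ×_Y V` with the induced charts of the fibres. -/
theorem exists_fibre_charts (hX : IsAlgSpace X) (hY : IsAlgSpace Y) (f : X ⟶ Y) {V : Over S}
    {b : (yon S).obj V ⟶ Y} (hb : RepWith @Etale b) :
    ∃ (U : Over S) (a : (yon S).obj U ⟶ X) (h : U ⟶ V), RepWith @Etale a ∧ a ≫ f = (yon S).map h ≫ b ∧
      (RepWith @Surjective b → Function.Surjective (Points.ofPt a)) ∧
      ∀ (v : V.left) (Xv : Sp S) (p : Xv ⟶ X)
        (c : Xv ⟶ (yon S).obj (Over.mk (V.left.fromSpecResidueField v ≫ V.hom))),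
        IsPullback p c f (resPt b v) → IsAlgSpace Xv ∧
          ∃ l : (yon S).obj (Over.mk (h.left.fiberι v ≫ U.hom)) ⟶ Xv, RepWith @Etale l ∧ RepWith @Surjective l := by
  have sP := IsPullback.of_hasPullback f b
  have hP : IsAlgSpace (pullback f b) := isAlgSpace_of_isPullback sP hY.diag hX (IsAlgSpace.yon_obj V)
  obtain ⟨U, q, hq, hqs⟩ := hP.atlas
  obtain ⟨h, hh⟩ := (yon S).map_surjective (q ≫ pullback.snd f b)
  refine ⟨U, q ≫ pullback.fst f b, h, repWith_comp hq (repWith_of_isPullback sP.flip hb), ?_, fun hbs => ?_, ?_⟩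
  · rw [Category.assoc, sP.w, hh, Category.assoc]
  · intro x
    obtain ⟨w, rfl⟩ := surjective_map_of_repWith (repWith_of_isPullback sP.flip hbs) x
    obtain ⟨u, rfl⟩ := surjective_ofPt_of_repWith hqs w
    exact ⟨u, (Points.map_ofPt (f := pullback.fst f b) (g := q) u).symm⟩
  intro v Xv p c sq
  refine ⟨isAlgSpace_of_isPullback sq hY.diag hX (IsAlgSpace.yon_obj _), ?_⟩
  let sK : Spec (CommRingCat.of (V.left.residueField v)) ⟶ S := V.left.fromSpecResidueField v ≫ V.hom
  let t : Over.mk sK ⟶ V := Over.homMk (V.left.fromSpecResidueField v) rfl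
  let m : Xv ⟶ pullback f b := sP.lift p (c ≫ (yon S).map t) (sq.w.trans (Category.assoc _ _ _).symm)
  have sm : IsPullback m c (pullback.snd f b) ((yon S).map t) :=
    IsPullback.of_right (by rw [sP.lift_fst]; exact sq) (sP.lift_snd _ _ _) sP
  let BU : Over S := Over.mk (h.left.fiberι v ≫ U.hom)
  let bU₁ : BU ⟶ U := Over.homMk (h.left.fiberι v) rfl
  let bU₂ : BU ⟶ Over.mk sK := Over.homMk (h.left.fiberToSpecResidueField v) (by
    change _ ≫ V.left.fromSpecResidueField v ≫ V.hom = h.left.fiberι v ≫ U.hom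
    rw [← Category.assoc, ← h.left.fiber_fac v, Category.assoc, Over.w h])
  have hBU : IsPullback bU₁ bU₂ h t :=
    IsPullback.of_map (Over.forget S) (Over.OverMorphism.ext (h.left.fiber_fac v))
      (IsPullback.of_hasPullback h.left (V.left.fromSpecResidueField v))
  have big : IsPullback ((yon S).map bU₁) ((yon S).map bU₂) (q ≫ pullback.snd f b) ((yon S).map t) := by
    rw [← hh]; exact hBU.map (yon S)
  let l : (yon S).obj BU ⟶ Xv := sm.lift ((yon S).map bU₁ ≫ q) ((yon S).map bU₂)
    ((Category.assoc _ _ _).trans big.w)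
  have hl : IsPullback ((yon S).map bU₁) l q m :=
    IsPullback.of_bot (by rw [sm.lift_snd]; exact big) (sm.lift_fst _ _ _).symm sm
  exact ⟨l, repWith_of_isPullback hl hq, repWith_of_isPullback hl hqs⟩

/-- A Gorenstein morphism is flat with Gorenstein fibres. -/
theorem flat_and_gorFibres (hX : IsAlgSpace X) (hY : IsAlgSpace Y) (f : X ⟶ Y) (hf : NoethFibres f)
    (H : ∀ x : Points X, LocPAt (fun h u => Dual3.IsGorensteinAt h u) f x) :
    LocP @Flat f ∧ ∀ (V : Over S) (b : (yon S).obj V ⟶ Y), RepWith @Etale b → GorFibres f b := by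
  refine ⟨fun U V a b h ha hb comm => Flat.of_stalkMap _ fun u => (H _ a b h u ha hb comm rfl).1, ?_⟩
  intro V b hb v Xv p c sq
  obtain ⟨U, a, h, ha, comm, -, hfib⟩ := exists_fibre_charts hX hY f hb
  obtain ⟨-, l, hl, hls⟩ := hfib v Xv p c sq
  refine ⟨_, l, hl, hls, isLocallyNoetherian_fiber_chart hX hY hf ha hb comm v, fun z => ?_⟩
  exact (isGorenstein_stalk_eq h.left (h.left.fiberι v z) z rfl).1 (H _ a b h _ ha hb comm rfl).2

/-- A flat morphism with Gorenstein fibres is Gorenstein at every point. -/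
theorem locPAt_gorenstein_of_fibres (hX : IsAlgSpace X) (hY : IsAlgSpace Y) (f : X ⟶ Y) (hfl : LocP @Flat f)
    {V : Over S} {b : (yon S).obj V ⟶ Y} (hb : RepWith @Etale b) (hbs : RepWith @Surjective b)
    (hG : GorFibres f b) (x : Points X) : LocPAt (fun h u => Dual3.IsGorensteinAt h u) f x := by
  obtain ⟨U, a, h, ha, comm, hsurj, hfib⟩ := exists_fibre_charts hX hY f hb
  obtain ⟨u, rfl⟩ := hsurj hbs x
  rw [Groth.AlgSpEt.locPAt_gorenstein_iff hX hY ha hb comm u]
  have : Flat h.left := hfl a b h ha hb comm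
  refine ⟨Flat.stalkMap h.left u, ?_⟩
  have sq := IsPullback.of_hasPullback f (resPt b (h.left u))
  obtain ⟨hXv, l, hl, -⟩ := hfib (h.left u) _ _ _ sq
  exact Groth.Agent.S10691.gorenstein_chart (X := ⟨_, hXv⟩) (hG (h.left u) _ _ _ sq) l hl (h.left.asFiber u)

end Groth.GorMor
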