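import Groth.Agent.GorMor.Space

/-!
# The Gorenstein locus of a morphism of algebraic spaces
-/

set_option autoImplicit false
set_option backward.isDefEq.respectTransparency.types false
set_option linter.style.haveILetI false

universe u

open CategoryTheory CategoryTheory.Limits AlgebraicGeometry AlgSp Groth.AlgSpBasic

namespace Groth.GorMor

variable {S : Scheme.{u}} {X Y X' Y' : Sp S}

/-- Openness of the Gorenstein locus, given it for schemes. -/
theorem isOpen_gorensteinLocus (hX : IsAlgSpace X) (hY : IsAlgSpace Y) {f : X ⟶ Y} (hf1 : LocP @Flat f)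
    (hf2 : LocP @LocallyOfFinitePresentation f)
    (hopen : ∀ (U V : Scheme.{u}) (h : U ⟶ V) [Flat h] [LocallyOfFinitePresentation h],
      IsOpen {u : U | Dual3.IsGorensteinAt h u}) :
    IsOpen {x : Points X | LocPAt (fun h u => Dual3.IsGorensteinAt h u) f x} := by
  obtain ⟨U, V, a, b, h, ha, has, hb, -, comm⟩ := Groth.AlgSpBasic.exists_charts hX hY f
  have : Flat h.left := hf1 a b h ha hb comm
  have : LocallyOfFinitePresentation h.left := hf2 a b h ha hb comm
  rw [← (isQuotientMap_ofPt ha has).isOpen_preimage]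
  have : Points.ofPt a ⁻¹' {x : Points X | LocPAt (fun h u => Dual3.IsGorensteinAt h u) f x} =
      {u : U.left | Dual3.IsGorensteinAt h.left u} := by
    ext u
    exact Groth.AlgSpEt.locPAt_gorenstein_iff hX hY ha hb comm u
  rw [this]
  exact hopen _ _ h.left

/-- The Gorenstein locus of a flat morphism locally of finite presentation commutes with base change. -/
theorem gorensteinLocus_baseChange (hX : IsAlgSpace X) (hY : IsAlgSpace Y) (hY' : IsAlgSpace Y') (hX' : IsAlgSpace X')
    {f : X ⟶ Y} {g : Y' ⟶ Y} {g' : X' ⟶ X} {f' : X' ⟶ Y'} (sq : IsPullback g' f' f g) (hf1 : LocP @Flat f)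
    (hf2 : LocP @LocallyOfFinitePresentation f) :
    {x' : Points X' | LocPAt (fun h u => Dual3.IsGorensteinAt h u) f' x'} =
      Points.map g' ⁻¹' {x : Points X | LocPAt (fun h u => Dual3.IsGorensteinAt h u) f x} := by
  ext x'
  obtain ⟨U, V, V', U', a, b, b', a', h, k, p, h', u', ha, hb, hb', ha', c1, c2, c3, c4, hpb, rfl, hu⟩ :=
    Groth.AlgSp3.exists_chart_baseChange hX hY hY' sq x'
  show LocPAt _ f' _ ↔ LocPAt _ f (Points.map g' (Points.ofPt a' u'))
  rw [← hu, Groth.AlgSpEt.locPAt_gorenstein_iff hX hY ha hb c1, Groth.AlgSpEt.locPAt_gorenstein_iff hX' hY' ha' hb' c3]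
  have : Flat h.left := hf1 a b h ha hb c1
  have : LocallyOfFinitePresentation h.left := hf2 a b h ha hb c1
  exact isGorensteinAt_baseChange_iff h.left k.left h'.left p.left hpb u'

end Groth.GorMor
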