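import Groth.Agent.GorMor.FieldExt
import Groth.Agent.CMMor.BaseChange
import Groth.Agent.Gorenstein.FlatLocal
import Groth.Agent.Flatmor4.CMComp
import Groth.Prelude.Def_Dual3

/-!
# Gorenstein stalks and extensions of the ground field
-/

set_option autoImplicit false
set_option backward.isDefEq.respectTransparency.types false
set_option linter.style.haveILetI false

universe u

open CategoryTheory CategoryTheory.Limits AlgebraicGeometry IsLocalRing TensorProduct GrothGoren

namespace Groth.GorMor

/-- Gorenstein local rings of schemes over a field do not see extensions of the field. -/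
theorem isGorenstein_stalk_iff {k K : Type u} [Field k] [Field K]
    (φ : CommRingCat.of k ⟶ CommRingCat.of K) {Z Z' : Scheme.{u}} [IsLocallyNoetherian Z] [IsLocallyNoetherian Z']
    (sZ : Z ⟶ Spec (CommRingCat.of k)) (sZ' : Z' ⟶ Spec (CommRingCat.of K))
    (q : Z' ⟶ Z) (h : IsPullback q sZ' sZ (Spec.map φ)) (z' : Z') :
    LocCoh.IsGorensteinLocalRing (Z'.presheaf.stalk z') ↔
      LocCoh.IsGorensteinLocalRing (Z.presheaf.stalk (q z')) := by
  haveI : Flat q := MorphismProperty.of_isPullback (P := @Flat) h.flip (Groth.CMMor.flat_SpecMap_field φ)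
  letI := (q.stalkMap z').hom.toAlgebra
  haveI : IsLocalHom (algebraMap (Z.presheaf.stalk (q z')) (Z'.presheaf.stalk z')) :=
    inferInstanceAs (IsLocalHom (q.stalkMap z').hom)
  haveI : Module.Flat (Z.presheaf.stalk (q z')) (Z'.presheaf.stalk z') := Flat.stalkMap q z'
  rw [isGorenstein_iff, isGorenstein_iff, exists_injLT_flat_iff (Z.presheaf.stalk (q z')) (Z'.presheaf.stalk z')]
  refine and_iff_left ?_
  obtain ⟨e⟩ := Groth.Flatmor4.exists_fiberStalkEquiv q z'
  refine (exists_injLT_iff_of_ringEquiv e).2 ?_
  let w := q z'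
  obtain ⟨ψ, hψ⟩ := Spec.map_surjective (Z.fromSpecResidueField w ≫ sZ)
  letI := φ.hom.toAlgebra
  letI : Algebra k (Z.residueField w) := ψ.hom.toAlgebra
  have hP : IsPullback (q.fiberι w ≫ sZ') (q.fiberToSpecResidueField w) (Spec.map φ) (Spec.map ψ) := by
    rw [hψ]
    exact (IsPullback.of_hasPullback q (Z.fromSpecResidueField w)).paste_horiz h.flip
  have hS := isPullback_SpecMap_of_isPushout _ _ _ _
    (CommRingCat.isPushout_tensorProduct k K (Z.residueField w))
  let i := hP.isoIsPullback _ _ hS
  haveI := isGorensteinRing_of_isRegularRing (Z.residueField w)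
  let p := i.hom (q.asFiber z')
  let e₁ : (Spec (CommRingCat.of (K ⊗[k] Z.residueField w))).presheaf.stalk p ≃+*
      (q.fiber w).presheaf.stalk (q.asFiber z') :=
    RingEquiv.ofBijective (i.hom.stalkMap (q.asFiber z')).hom (ConcreteCategory.bijective_of_isIso _)
  let e₀ : Localization.AtPrime p.asIdeal ≃+* (Spec (CommRingCat.of (K ⊗[k] Z.residueField w))).presheaf.stalk p :=
    (StructureSheaf.stalkIso (CommRingCat.of (K ⊗[k] Z.residueField w)) p).toRingEquiv
  let e₂ := e₀.trans e₁
  have hnoe : IsNoetherianRing ((q.fiber w).presheaf.stalk (q.asFiber z')) :=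
    isNoetherianRing_of_ringEquiv _ e
  haveI : IsNoetherianRing (Localization.AtPrime p.asIdeal) := isNoetherianRing_of_ringEquiv _ e₂.symm
  exact (exists_injLT_iff_of_ringEquiv e₂).1 (exists_injLT_tensor k K (Z.residueField w) p.asIdeal)

end Groth.GorMor
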